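import Groth.Agent.AlgSpLoc.FlatFibres
import Groth.Agent.AlgSpc.FibreProd

/-!
Descent of the locally Noetherian property of fibres along extensions of the base field.
-/

set_option autoImplicit false
set_option linter.style.haveILetI false
set_option backward.isDefEq.respectTransparency false
universe u

open CategoryTheory Limits AlgebraicGeometry
open AlgSp

namespace Groth.Agent.AlgSpFieldNoeth

open Groth.Agent.AlgSpc

variable {S : Scheme.{u}}

theorem flat_to_field {K : Type u} [Field K] {Z : Scheme.{u}} (g : Z ⟶ Spec (.of K)) : Flat g := by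
  rw [IsZariskiLocalAtSource.iff_of_openCover (P := @Flat) Z.affineCover]
  intro i
  obtain ⟨φ, hφ⟩ := Spec.map_surjective (Z.affineCover.f i ≫ g)
  rw [← hφ]
  refine (HasRingHomProperty.Spec_iff (P := @Flat)).2 ?_
  letI := φ.hom.toAlgebra
  exact Module.Flat.of_free

/-- The locally Noetherian property descends along flat surjective quasi-compact changes of base. -/
theorem isLocNoethSp_of_cover {Q P : Sp S} (hQ : IsAlgSpace Q) {T T' : Over S} {c : T' ⟶ T}
    [Flat c.left] [Surjective c.left] [QuasiCompact c.left]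
    {fst : P ⟶ Q} {snd : P ⟶ (yon S).obj T'} {q : Q ⟶ (yon S).obj T}
    (sq : IsPullback fst snd q ((yon S).map c)) (hP : IsLocNoethSp P) : IsLocNoethSp Q := by
  obtain ⟨A, a, ha, has⟩ := hQ.atlas
  have sA := (IsPullback.of_hasPullback (pre (a ≫ q)) c).map (yon S)
  have w : ((yon S).map (pullback.fst (pre (a ≫ q)) c) ≫ a) ≫ q =
      (yon S).map (pullback.snd (pre (a ≫ q)) c) ≫ (yon S).map c := by
    rw [Category.assoc, ← sA.w, map_pre]
  let d := sq.lift _ _ w
  have sd : IsPullback ((yon S).map (pullback.fst (pre (a ≫ q)) c)) d a fst := by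
    refine IsPullback.of_bot ?_ (sq.lift_fst _ _ _).symm sq
    rw [sq.lift_snd]
    convert sA using 1
    exact (map_pre _).symm
  have hN := AlgSpLoc.isLocallyNoetherian_chart hP (repWith_of_isPullback sd ha)
  have hsq := (IsPullback.of_hasPullback (pre (a ≫ q)) c).map (Over.forget S)
  haveI : Flat (pullback.fst (pre (a ≫ q)) c).left := MorphismProperty.of_isPullback hsq.flip ‹Flat c.left›
  haveI : Surjective (pullback.fst (pre (a ≫ q)) c).left :=
    MorphismProperty.of_isPullback hsq.flip ‹Surjective c.left›
  haveI : QuasiCompact (pullback.fst (pre (a ≫ q)) c).left :=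
    MorphismProperty.of_isPullback hsq.flip ‹QuasiCompact c.left›
  exact ⟨A, a, ha, has, FpqcDescent.isLocallyNoetherian_of_flat_surjective_quasiCompact
    (pullback.fst (pre (a ≫ q)) c).left⟩

/-- The locally Noetherian property ascends along locally of finite type changes of base. -/
theorem isLocNoethSp_of_lft {Q P : Sp S} {T T' : Over S} {c : T' ⟶ T} [LocallyOfFiniteType c.left]
    {fst : P ⟶ Q} {snd : P ⟶ (yon S).obj T'} {q : Q ⟶ (yon S).obj T}
    (sq : IsPullback fst snd q ((yon S).map c)) (hQ : IsLocNoethSp Q) : IsLocNoethSp P := by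
  obtain ⟨A, a, ha, has, hA⟩ := hQ
  have sA := (IsPullback.of_hasPullback (pre (a ≫ q)) c).map (yon S)
  have w : ((yon S).map (pullback.fst (pre (a ≫ q)) c) ≫ a) ≫ q =
      (yon S).map (pullback.snd (pre (a ≫ q)) c) ≫ (yon S).map c := by
    rw [Category.assoc, ← sA.w, map_pre]
  let d := sq.lift _ _ w
  have sd : IsPullback ((yon S).map (pullback.fst (pre (a ≫ q)) c)) d a fst := by
    refine IsPullback.of_bot ?_ (sq.lift_fst _ _ _).symm sq
    rw [sq.lift_snd]
    convert sA using 1
    exact (map_pre _).symm
  haveI : LocallyOfFiniteType (pullback.fst (pre (a ≫ q)) c).left :=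
    MorphismProperty.of_isPullback ((IsPullback.of_hasPullback (pre (a ≫ q)) c).map (Over.forget S)).flip
      ‹LocallyOfFiniteType c.left›
  exact ⟨_, d, repWith_of_isPullback sd ha, repWith_of_isPullback sd has,
    LocallyOfFiniteType.isLocallyNoetherian (pullback.fst (pre (a ≫ q)) c).left⟩

end Groth.Agent.AlgSpFieldNoeth
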